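import Cfsg.Agent.H2.Fi23C.Basic
import Cfsg.Agent.H23.Three.Linear

/-!
The elements of the core fixed by `K₀` modulo the centre: at most `2^4` cosets short of the whole
core they would leave a faithful action of `3 × U₄(2)` on at most `2^6` elements.
-/

set_option autoImplicit false

namespace H50.Fi23C

open Subgroup H2.Fi23C

universe u v

variable {G : Type u} [Group G] {F : Type v} [Field F] [Fintype F] {z a b c : G}
  {J K₀ : Subgroup G} {π : ↥K₀ →* Cfsg.PSp 2 F}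

/-- The centre of the core inside the ambient group. -/
def zJ (J : Subgroup G) : Subgroup G := J ⊓ centralizer (J : Set G)

theorem mem_zJ_iff (S : Setup4 z a b c J K₀ π) {p : G} : InZ z a b p ↔ p ∈ zJ J := by
  have hz : z ∈ zJ J := ⟨S.z_mem, mem_centralizer_iff.2 fun q hq =>
    mem_centralizer_singleton_iff.1 (S.le_cent (S.J_le hq))⟩
  have ha : a ∈ zJ J := ⟨S.a_mem, mem_centralizer_iff.2 fun q hq => (S.a_K₀ q (S.J_le hq)).symm.eq⟩
  have hb : b ∈ zJ J := ⟨S.b_mem, mem_centralizer_iff.2 fun q hq => (S.b_K₀ q (S.J_le hq)).symm.eq⟩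
  have hW : ∀ {q : G}, InW a b q → q ∈ zJ J := by
    rintro q (rfl | rfl | rfl | rfl)
    exacts [one_mem _, ha, hb, mul_mem ha hb]
  constructor
  · rintro (h | h)
    · exact hW h
    · simpa using mul_mem (hW h) (inv_mem hz)
  · rintro ⟨hp, hc⟩
    exact S.center p hp fun q hq => (mem_centralizer_iff.1 hc q hq).symm

theorem zJ_sq (S : Setup4 z a b c J K₀ π) {p : G} (hp : p ∈ zJ J) : p * p = 1 := by
  have hza : Commute z a := (mem_centralizer_iff.1 ((mem_zJ_iff S).1 (Or.inl (Or.inr (Or.inl rfl)))).2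
    z S.z_mem)
  have hzb : Commute z b := (mem_centralizer_iff.1
    ((mem_zJ_iff S).1 (Or.inl (Or.inr (Or.inr (Or.inl rfl))))).2 z S.z_mem)
  have hW : ∀ {q : G}, InW a b q → q * q = 1 ∧ Commute z q := by
    rintro q (rfl | rfl | rfl | rfl)
    · exact ⟨mul_one _, Commute.one_right z⟩
    · exact ⟨S.a_sq, hza⟩
    · exact ⟨S.b_sq, hzb⟩
    · exact ⟨by rw [show a * b * (a * b) = a * (b * a) * b by group, ← S.ab_comm.eq,
        show a * (a * b) * b = (a * a) * (b * b) by group, S.a_sq, S.b_sq, one_mul],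
        hza.mul_right hzb⟩
  rcases (mem_zJ_iff S).2 hp with h | h
  · exact (hW h).1
  · obtain ⟨h1, h2⟩ := hW h
    have e : p = p * z * z := by rw [mul_assoc, S.sq, mul_one]
    rw [e, show p * z * z * (p * z * z) = (p * z) * (z * (p * z)) * z by group, h2.eq,
      show (p * z) * (p * z * z) * z = ((p * z) * (p * z)) * (z * z) by group, h1, S.sq, mul_one]

theorem conj_zJ (S : Setup4 z a b c J K₀ π) {g p : G}
    (hg : g ∈ centralizer ({z} : Set G)) (hp : p ∈ zJ J) : g * p * g⁻¹ ∈ zJ J := by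
  refine ⟨S.conj_mem g hg p hp.1, mem_centralizer_iff.2 fun q hq => ?_⟩
  have h1 := mem_centralizer_iff.1 hp.2 _ (S.conj_mem g⁻¹ (inv_mem hg) q hq)
  calc q * (g * p * g⁻¹) = g * ((g⁻¹ * q * g⁻¹⁻¹) * p) * g⁻¹ := by group
    _ = g * (p * (g⁻¹ * q * g⁻¹⁻¹)) * g⁻¹ := by rw [h1]
    _ = g * p * g⁻¹ * q := by group

/-- The elements of the core fixed by `K₀` modulo the centre. -/
def fixK (S : Setup4 z a b c J K₀ π) : Subgroup G where
  carrier := {p | p ∈ J ∧ ∀ h ∈ K₀, h * p * h⁻¹ * p⁻¹ ∈ zJ J}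
  one_mem' := ⟨one_mem _, fun h _ => by simp⟩
  mul_mem' := by
    rintro p q ⟨hp, hp'⟩ ⟨hq, hq'⟩
    refine ⟨mul_mem hp hq, fun h hh => ?_⟩
    rw [show h * (p * q) * h⁻¹ * (p * q)⁻¹ =
      (h * p * h⁻¹ * p⁻¹) * (p * (h * q * h⁻¹ * q⁻¹) * p⁻¹) by group]
    exact mul_mem (hp' h hh) (conj_zJ S (S.le_cent (S.J_le hp)) (hq' h hh))
  inv_mem' := by
    rintro p ⟨hp, hp'⟩
    refine ⟨inv_mem hp, fun h hh => ?_⟩
    rw [show h * p⁻¹ * h⁻¹ * p⁻¹⁻¹ = p⁻¹ * (h * p * h⁻¹ * p⁻¹)⁻¹ * p⁻¹⁻¹ by group]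
    exact conj_zJ S (inv_mem (S.le_cent (S.J_le hp))) (inv_mem (hp' h hh))

theorem fixK_le (S : Setup4 z a b c J K₀ π) : fixK S ≤ J := fun _ h => h.1

theorem zJ_le_fixK (S : Setup4 z a b c J K₀ π) : zJ J ≤ fixK S := fun p hp =>
  ⟨hp.1, fun h hh => mul_mem (conj_zJ S (S.le_cent hh) hp) (inv_mem hp)⟩

theorem comm_zJ (S : Setup4 z a b c J K₀ π) {p q : G} (hp : p ∈ J) (hq : q ∈ J) :
    p * q * p⁻¹ * q⁻¹ ∈ zJ J := by
  have hz : z ∈ zJ J := (mem_zJ_iff S).1 (Or.inr (Or.inl S.sq))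
  rcases S.comm_mem p hp q hq with h | h
  · rw [h, show q * p * p⁻¹ * q⁻¹ = 1 by group]
    exact one_mem _
  · rw [h, show q * p * z * p⁻¹ * q⁻¹ = q * p * z * (q * p)⁻¹ by group]
    exact conj_zJ S (mul_mem (S.le_cent (S.J_le hq)) (S.le_cent (S.J_le hp))) hz

/-- `K₀` does not act trivially modulo its fixed elements. -/
theorem not_trivial [Finite G] (S : Setup4 z a b c J K₀ π) :
    ¬ ∀ h ∈ K₀, ∀ p ∈ J, h * p * h⁻¹ * p⁻¹ ∈ fixK S := by
  intro htriv
  haveI : Fact (Nat.Prime 5) := ⟨by norm_num⟩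
  obtain ⟨t, ht⟩ := exists_prime_orderOf_dvd_card' (G := Cfsg.PSp 2 F) 5
    (by rw [S.card_psp]; norm_num)
  obtain ⟨⟨h, hh⟩, rfl⟩ := S.π_surj t
  have h4 : h ^ 4 ∈ J := by
    refine S.self_cent _ (S.le_cent (pow_mem hh 4)) fun p hp => ?_
    have hh2 : h * h ∈ K₀ := mul_mem hh hh
    set f := h * p * h⁻¹ * p⁻¹ with hf
    have hfF : f ∈ fixK S := htriv h hh p hp
    set ζ := h * h * p * (h * h)⁻¹ * p⁻¹ with hζ
    have hζZ : ζ ∈ zJ J := by
      rw [hζ, show h * h * p * (h * h)⁻¹ * p⁻¹ = (h * f * h⁻¹ * f⁻¹) * (f * f) by rw [hf]; group]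
      refine mul_mem (hfF.2 h hh) ?_
      rcases S.sq_mem f hfF.1 with e | e <;> rw [e]
      · exact one_mem _
      · exact (mem_zJ_iff S).1 (Or.inr (Or.inl S.sq))
    have hcomm : Commute (h * h) ζ := by
      rcases (mem_zJ_iff S).2 hζZ with e | e
      · have hW : ∀ {q : G}, InW a b q → Commute (h * h) q := by
          rintro q (rfl | rfl | rfl | rfl)
          exacts [Commute.one_right _, (S.a_K₀ _ hh2).symm, (S.b_K₀ _ hh2).symm,
            (S.a_K₀ _ hh2).symm.mul_right (S.b_K₀ _ hh2).symm]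
        exact hW e
      · have hW : ∀ {q : G}, InW a b q → Commute (h * h) q := by
          rintro q (rfl | rfl | rfl | rfl)
          exacts [Commute.one_right _, (S.a_K₀ _ hh2).symm, (S.b_K₀ _ hh2).symm,
            (S.a_K₀ _ hh2).symm.mul_right (S.b_K₀ _ hh2).symm]
        have hz : Commute (h * h) z := mem_centralizer_singleton_iff.1 (S.le_cent hh2)
        have := (hW e).mul_right hz.inv_right
        rwa [mul_assoc, mul_inv_cancel, mul_one] at this
    show h ^ 4 * p = p * h ^ 4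
    rw [← mul_inv_eq_iff_eq_mul]
    calc h ^ 4 * p * (h ^ 4)⁻¹ = (h * h) * (ζ * p) * (h * h)⁻¹ := by
          rw [hζ, show h ^ 4 = h * h * (h * h) by simp only [pow_succ, pow_zero, one_mul, mul_assoc]]
          group
      _ = ((h * h) * ζ * (h * h)⁻¹) * (ζ * p) := by rw [hζ]; group
      _ = p := by rw [hcomm.eq, mul_inv_cancel_right, ← mul_assoc, zJ_sq S hζZ, one_mul]
  have h1 := (S.π_ker ⟨h ^ 4, pow_mem hh 4⟩).2 h4
  rw [show (⟨h ^ 4, pow_mem hh 4⟩ : ↥K₀) = ⟨h, hh⟩ ^ 4 from rfl, map_pow] at h1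
  have h2 := orderOf_dvd_of_pow_eq_one h1
  rw [ht] at h2
  norm_num at h2

/-- The elements of `C(z)` preserving the fixed elements. -/
def actGrp (S : Setup4 z a b c J K₀ π) : Subgroup G :=
  centralizer ({z} : Set G) ⊓ normalizer (fixK S : Set G)

theorem fixK_normal (S : Setup4 z a b c J K₀ π) : ((fixK S).subgroupOf J).Normal :=
  ⟨fun p hp g => by
    rw [mem_subgroupOf] at hp ⊢
    push_cast
    rw [show (g : G) * p * (g : G)⁻¹ = ((g : G) * p * (g : G)⁻¹ * (p : G)⁻¹) * p by group]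
    exact mul_mem (zJ_le_fixK S (comm_zJ S g.2 hp.1)) hp⟩

/-- `K₀` has no large fixed subgroup. -/
theorem fixK_card [Finite G] (S : Setup4 z a b c J K₀ π) : ¬ 32 ≤ Nat.card (fixK S) := by
  intro h32
  classical
  haveI := fixK_normal S
  set Fj := (fixK S).subgroupOf J with hFj
  let V := ↥J ⧸ Fj
  letI instV : CommGroup V :=
    { (inferInstance : Group V) with
      mul_comm := fun x y => by
        induction x using QuotientGroup.induction_on with | _ p => ?_
        induction y using QuotientGroup.induction_on with | _ q => ?_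
        rw [← QuotientGroup.mk_mul, ← QuotientGroup.mk_mul, eq_comm, QuotientGroup.eq,
          mem_subgroupOf]
        push_cast
        rw [show ((q : G) * p)⁻¹ * ((p : G) * q) =
          (p : G)⁻¹ * (q : G)⁻¹ * (p : G)⁻¹⁻¹ * (q : G)⁻¹⁻¹ by group]
        exact zJ_le_fixK S (comm_zJ S (inv_mem p.2) (inv_mem q.2)) }
  have hexp : ∀ x : V, x ^ 2 = 1 := fun x => by
    induction x using QuotientGroup.induction_on with | _ p => ?_
    rw [← QuotientGroup.mk_pow, QuotientGroup.eq_one_iff, pow_two, mem_subgroupOf]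
    push_cast
    rcases S.sq_mem p p.2 with e | e <;> rw [e]
    · exact one_mem _
    · exact zJ_le_fixK S ((mem_zJ_iff S).1 (Or.inr (Or.inl S.sq)))
  -- the order of the quotient
  obtain ⟨n, hn6, hn⟩ : ∃ n ≤ 6, Nat.card V = 2 ^ n := by
    have h1 : Nat.card V * Nat.card Fj = 2 ^ 11 := by
      rw [← S.card_J]; exact (Subgroup.card_eq_card_quotient_mul_card_subgroup Fj).symm
    obtain ⟨n, -, hn⟩ := (Nat.dvd_prime_pow Nat.prime_two).1 ⟨_, h1.symm⟩
    refine ⟨n, ?_, hn⟩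
    have h2 : Nat.card Fj = Nat.card (fixK S) :=
      Nat.card_congr (subgroupOfEquivOfLe (fixK_le S)).toEquiv
    by_contra h6
    have h7 : 2 ^ 7 ≤ 2 ^ n := Nat.pow_le_pow_right (by norm_num) (by omega)
    have h3 := Nat.mul_le_mul h7 (h2 ▸ h32)
    rw [← hn, h1] at h3
    norm_num at h3
  -- the action
  let conjJ : ↥(actGrp S) → MulAut ↥J := fun g =>
    { toFun := fun p => ⟨(g : G) * p * (g : G)⁻¹, S.conj_mem g g.2.1 p p.2⟩
      invFun := fun p => ⟨(g : G)⁻¹ * p * (g : G)⁻¹⁻¹, S.conj_mem _ (inv_mem g.2.1) p p.2⟩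
      left_inv := fun p => Subtype.ext (by group)
      right_inv := fun p => Subtype.ext (by group)
      map_mul' := fun p q => Subtype.ext (by push_cast; group) }
  have hmapF : ∀ g : ↥(actGrp S), Fj.map (conjJ g).toMonoidHom = Fj := by
    intro g
    ext p
    rw [Subgroup.mem_map]
    constructor
    · rintro ⟨q, hq, rfl⟩
      exact (mem_normalizer_iff.1 g.2.2 (q : G)).1 hq
    · intro hp
      refine ⟨(conjJ g).symm p, ?_, (conjJ g).apply_symm_apply p⟩
      exact (mem_normalizer_iff.1 (inv_mem g.2.2) (p : G)).1 hp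
  let φ : ↥(actGrp S) →* MulAut V :=
    { toFun := fun g => QuotientGroup.congr Fj Fj (conjJ g) (hmapF g)
      map_one' := by
        ext x
        induction x using QuotientGroup.induction_on with | _ p => ?_
        exact congrArg (QuotientGroup.mk (s := Fj)) (Subtype.ext (show ((1 : ↥(actGrp S)) : G) * p *
          ((1 : ↥(actGrp S)) : G)⁻¹ = p by simp))
      map_mul' := fun g h => by
        ext x
        induction x using QuotientGroup.induction_on with | _ p => ?_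
        exact congrArg (QuotientGroup.mk (s := Fj)) (Subtype.ext
          (show ((g * h : ↥(actGrp S)) : G) * p * ((g * h : ↥(actGrp S)) : G)⁻¹ =
            g * ((h : G) * p * (h : G)⁻¹) * (g : G)⁻¹ by push_cast; group)) }
  have hφ1 : ∀ g : ↥(actGrp S), φ g = 1 ↔ ∀ p ∈ J, (g : G) * p * (g : G)⁻¹ * p⁻¹ ∈ fixK S := by
    intro g
    constructor
    · intro e p hp
      have h1 := DFunLike.congr_fun e ((⟨p, hp⟩ : ↥J) : V)
      change ((conjJ g ⟨p, hp⟩ : ↥J) : V) = ((⟨p, hp⟩ : ↥J) : V) at h1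
      rw [QuotientGroup.eq_iff_div_mem, mem_subgroupOf] at h1
      simpa [conjJ, div_eq_mul_inv] using h1
    · intro hp
      ext x
      induction x using QuotientGroup.induction_on with | _ p => ?_
      show ((conjJ g p : ↥J) : V) = (p : V)
      rw [QuotientGroup.eq_iff_div_mem, mem_subgroupOf]
      simpa [conjJ, div_eq_mul_inv] using hp p p.2
  have hnorm : ∀ g : G, (∀ p ∈ fixK S, g * p * g⁻¹ ∈ fixK S) →
      g ∈ normalizer (fixK S : Set G) := fun g hg =>
    mem_normalizer_fintype hg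
  have hK : K₀ ≤ actGrp S := fun h hh => ⟨S.le_cent hh, hnorm h fun p hp => by
    rw [show h * p * h⁻¹ = (h * p * h⁻¹ * p⁻¹) * p by group]
    exact mul_mem (zJ_le_fixK S (hp.2 h hh)) hp⟩
  have hcA : c ∈ actGrp S := ⟨S.c_mem, hnorm c fun p hp => by
    refine ⟨S.conj_mem c S.c_mem p hp.1, fun h hh => ?_⟩
    have h1 : c⁻¹ * h * c ∈ K₀ := by
      have hbh : Commute b h := S.b_K₀ h hh
      have habh : Commute (a * b) h := (S.a_K₀ h hh).mul_left hbh
      refine S.mem_K₀ _ (mul_mem (mul_mem (inv_mem S.c_mem) (S.le_cent hh)) S.c_mem) ?_ ?_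
      · show a * (c⁻¹ * h * c) = c⁻¹ * h * c * a
        calc a * (c⁻¹ * h * c) = c⁻¹ * ((c * a * c⁻¹) * h) * c := by group
          _ = c⁻¹ * (h * (c * a * c⁻¹)) * c := by rw [S.c_a, hbh.eq]
          _ = c⁻¹ * h * c * a := by group
      · show b * (c⁻¹ * h * c) = c⁻¹ * h * c * b
        calc b * (c⁻¹ * h * c) = c⁻¹ * ((c * b * c⁻¹) * h) * c := by group
          _ = c⁻¹ * (h * (c * b * c⁻¹)) * c := by rw [S.c_b, habh.eq]
          _ = c⁻¹ * h * c * b := by group
    rw [show h * (c * p * c⁻¹) * h⁻¹ * (c * p * c⁻¹)⁻¹ =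
      c * ((c⁻¹ * h * c) * p * (c⁻¹ * h * c)⁻¹ * p⁻¹) * c⁻¹ by group]
    exact conj_zJ S S.c_mem (hp.2 _ h1)⟩
  set ι : ↥K₀ →* MulAut V := φ.comp (inclusion hK) with hι
  have hιJ : ∀ h : ↥K₀, (h : G) ∈ J → ι h = 1 := fun h hh => (hφ1 _).2 fun p hp =>
    zJ_le_fixK S (comm_zJ S hh hp)
  have hnp : ∀ x : Cfsg.PSp 2 F, (∀ y, x * y = y * x) → x = 1 := by
    intro x hx
    haveI := S.simple_psp
    rcases (inferInstance : (Subgroup.center (Cfsg.PSp 2 F)).Normal).eq_bot_or_eq_top with e | e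
    · exact (mem_bot).1 (e ▸ (mem_center_iff.2 fun y => (hx y).symm))
    · exfalso
      have hcomm : ∀ x y : Cfsg.PSp 2 F, x * y = y * x := fun x y =>
        (mem_center_iff.1 (e ▸ mem_top y : y ∈ Subgroup.center _) x)
      letI : CommGroup (Cfsg.PSp 2 F) := { (inferInstance : Group (Cfsg.PSp 2 F)) with
        mul_comm := hcomm }
      have hp := IsSimpleGroup.prime_card (α := Cfsg.PSp 2 F)
      rw [S.card_psp] at hp
      norm_num at hp
  -- the kernel on `K₀` is the core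
  have hker : ∀ h : ↥K₀, ι h = 1 → (h : G) ∈ J := by
    haveI := S.simple_psp
    have hn : (ι.ker.map π).Normal := Subgroup.Normal.map inferInstance π S.π_surj
    rcases hn.eq_bot_or_eq_top with e | e
    · intro h hh
      exact (S.π_ker h).1 (mem_bot.1 (e ▸ mem_map_of_mem π hh))
    · exfalso
      refine not_trivial S fun h hh => (hφ1 (inclusion hK ⟨h, hh⟩)).1 ?_
      obtain ⟨k, hk, hke⟩ : π ⟨h, hh⟩ ∈ ι.ker.map π := e ▸ mem_top _
      have h1 : π (k⁻¹ * ⟨h, hh⟩) = 1 := by rw [map_mul, map_inv, hke, inv_mul_cancel]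
      have h2 := hιJ _ ((S.π_ker _).1 h1)
      rw [map_mul, map_inv, MonoidHom.mem_ker.1 hk, inv_one, one_mul] at h2
      exact h2
  -- the element of order three
  set γ := φ ⟨c, hcA⟩ with hγ
  have hγ3 : γ ^ 3 = 1 := by
    rw [hγ, ← map_pow, show (⟨c, hcA⟩ : ↥(actGrp S)) ^ 3 = 1 from Subtype.ext S.c_pow, map_one]
  have hγc : ∀ h : ↥K₀, Commute γ (ι h) := by
    intro h
    have h1 : φ (⟨c, hcA⟩ * inclusion hK h * ⟨c, hcA⟩⁻¹ * (inclusion hK h)⁻¹) = 1 :=
      (hφ1 _).2 fun p hp => zJ_le_fixK S (comm_zJ S (S.c_K₀ h h.2) hp)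
    rw [map_mul, map_mul, map_mul, map_inv, map_inv, mul_inv_eq_one, mul_inv_eq_iff_eq_mul] at h1
    exact h1
  have hγI : γ ∉ ι.range := by
    rintro ⟨h, hh⟩
    have h1 : ∀ k : ↥K₀, π h * π k = π k * π h := fun k => by
      have h2 : ι (h * k * h⁻¹ * k⁻¹) = 1 := by
        rw [map_mul, map_mul, map_mul, map_inv, map_inv, hh, (hγc k).eq]; group
      have h3 := (S.π_ker _).2 (hker _ h2)
      rwa [map_mul, map_mul, map_mul, map_inv, map_inv, mul_inv_eq_one, mul_inv_eq_iff_eq_mul] at h3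
    have h4 : π h = 1 := hnp _ fun y => by
      obtain ⟨k, rfl⟩ := S.π_surj y
      exact h1 k
    have h5 : γ = 1 := by rw [← hh, hιJ h ((S.π_ker h).1 h4)]
    -- `c` moves the core modulo the fixed elements
    refine not_trivial S fun k _ p hp => ?_
    suffices hall : ∀ q ∈ J, q ∈ fixK S by
      exact hall _ (mul_mem (S.conj_mem k (S.le_cent ‹k ∈ K₀›) p hp) (inv_mem hp))
    set Z := (zJ J).subgroupOf J with hZ
    haveI hZn : Z.Normal := ⟨fun q hq g => conj_zJ S (S.le_cent (S.J_le g.2)) hq⟩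
    let dd : ↥J →* ↥J ⧸ Z :=
      { toFun := fun q => ((⟨c * q * c⁻¹ * (q : G)⁻¹,
          mul_mem (S.conj_mem c S.c_mem q q.2) (inv_mem q.2)⟩ : ↥J) : ↥J ⧸ Z)
        map_one' := by
          rw [QuotientGroup.eq_one_iff, mem_subgroupOf]
          simp
        map_mul' := fun q r => by
          rw [← QuotientGroup.mk_mul, QuotientGroup.eq, mem_subgroupOf]
          push_cast
          set Q' := c * (r : G) * c⁻¹ * (r : G)⁻¹ with hQ'
          have hQJ : Q' ∈ J := mul_mem (S.conj_mem c S.c_mem r r.2) (inv_mem r.2)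
          rw [show (c * ((q : G) * r) * c⁻¹ * ((q : G) * r)⁻¹)⁻¹ *
            (c * q * c⁻¹ * (q : G)⁻¹ * Q') = (q : G) * Q'⁻¹ * (q : G)⁻¹ * Q'⁻¹⁻¹ by
              rw [hQ']; group]
          exact comm_zJ S q.2 (inv_mem hQJ) }
    have hdd : ∀ q, dd q = 1 ↔ q ∈ Z := by
      intro q
      show ((_ : ↥J) : ↥J ⧸ Z) = 1 ↔ _
      rw [QuotientGroup.eq_one_iff, mem_subgroupOf, mem_subgroupOf]
      constructor
      · exact fun e => (mem_zJ_iff S).1 (S.c_fix q q.2 ((mem_zJ_iff S).2 e))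
      · exact fun e => mul_mem (conj_zJ S S.c_mem e) (inv_mem e)
    have hsurj : dd.range = ⊤ := by
      refine Subgroup.eq_top_of_card_eq _ ?_
      rw [← Subgroup.index_ker, ← Subgroup.index_eq_card, show dd.ker = Z from Subgroup.ext hdd]
    intro q hq
    obtain ⟨r, hr⟩ : ((⟨q, hq⟩ : ↥J) : ↥J ⧸ Z) ∈ dd.range := hsurj ▸ mem_top _
    change ((_ : ↥J) : ↥J ⧸ Z) = _ at hr
    rw [QuotientGroup.eq, mem_subgroupOf] at hr
    push_cast at hr
    have h6 : c * (r : G) * c⁻¹ * (r : G)⁻¹ ∈ fixK S :=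
      (hφ1 ⟨c, hcA⟩).1 h5 r r.2
    have h7 := mul_mem h6 (zJ_le_fixK S hr)
    rwa [mul_inv_cancel_left] at h7
  -- the order
  have hcardI : Nat.card ι.range = 25920 := by
    rw [← Subgroup.index_ker, show ι.ker = π.ker from Subgroup.ext fun h =>
      ⟨fun e => (S.π_ker h).2 (hker h e), fun e => hιJ h ((S.π_ker h).1 e)⟩, Subgroup.index_ker,
      MonoidHom.range_eq_top.2 S.π_surj, Subgroup.card_top, S.card_psp]
  haveI : Fact (Nat.Prime 3) := ⟨Nat.prime_three⟩
  have hγ1 : γ ≠ 1 := fun e => hγI (e ▸ one_mem _)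
  have hoγ : orderOf γ = 3 := orderOf_eq_prime hγ3 hγ1
  have hcom : ∀ (x : ↥ι.range) (y : ↥(zpowers γ)),
      Commute (ι.range.subtype x) ((zpowers γ).subtype y) := by
    rintro ⟨x, h, rfl⟩ ⟨y, hy⟩
    obtain ⟨i, rfl⟩ := mem_zpowers_iff.1 hy
    exact ((hγc h).zpow_left i).symm
  have hdisj : ∀ x ∈ ι.range, x ∈ zpowers γ → x = 1 := by
    intro x hx hxz
    by_contra hx1
    refine hγI (Subgroup.zpowers_le.2 hx ?_)
    have hox : orderOf x = 3 := by
      have hd := orderOf_dvd_of_mem_zpowers hxz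
      rw [hoγ] at hd
      rcases (Nat.dvd_prime Nat.prime_three).1 hd with e | e
      · exact absurd (orderOf_eq_one_iff.1 e) hx1
      · exact e
    have he : zpowers x = zpowers γ := Subgroup.eq_of_le_of_card_ge (Subgroup.zpowers_le.2 hxz)
      (by rw [Nat.card_zpowers, Nat.card_zpowers, hox, hoγ])
    exact he ▸ mem_zpowers γ
  let Ψ := MonoidHom.noncommCoprod ι.range.subtype (zpowers γ).subtype hcom
  have hΨ : Function.Injective Ψ := by
    rw [injective_iff_map_eq_one]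
    rintro ⟨x, y⟩ e
    rw [MonoidHom.noncommCoprod_apply] at e
    have h1 : (x : MulAut V) = ((y : MulAut V))⁻¹ := eq_inv_of_mul_eq_one_left e
    have h2 : (x : MulAut V) = 1 := hdisj _ x.2 (h1 ▸ inv_mem y.2)
    rw [h2, eq_comm, inv_eq_one] at h1
    exact Prod.ext (Subtype.ext h2) (Subtype.ext h1)
  have hdvd := Subgroup.card_dvd_of_injective Ψ hΨ
  rw [Nat.card_prod, hcardI, Nat.card_zpowers, hoγ] at hdvd
  haveI : Fact (Nat.Prime 2) := ⟨Nat.prime_two⟩
  have hgl := H23.Three.card_dvd (V := V) hexp hn ⊤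
  rw [Subgroup.card_top] at hgl
  have h243 : 243 ∣ ∏ i : Fin n, (2 ^ n - 2 ^ (i : ℕ)) :=
    (Dvd.dvd.trans (by norm_num) hdvd).trans hgl
  interval_cases n <;> simp [Fin.prod_univ_succ] at h243

/-- The fixed case of the module does not occur in the quotients. -/
theorem noFix : NoFixStmt.{u, v} := by
  intro G _ _ F _ _ z a b c J K₀ π S e he X hz hb hXle hXe Q _ _ f hfk U hU
  apply fixK_card S
  have hKX : K₀ ≤ X := fun h hh => hXle ⟨S.le_cent hh,
    mem_centralizer_singleton_iff.2 (S.a_K₀ h hh).symm.eq⟩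
  have heZ : e ∈ zJ J := by
    rcases he with rfl | rfl
    · exact (mem_zJ_iff S).1 (Or.inl (Or.inr (Or.inl rfl)))
    · exact (mem_zJ_iff S).1 (Or.inr (Or.inr (Or.inl (by rw [mul_assoc, S.sq, mul_one]))))
  have hzZ : z ∈ zJ J := (mem_zJ_iff S).1 (Or.inr (Or.inl S.sq))
  have hbZ : b ∈ zJ J := (mem_zJ_iff S).1 (Or.inl (Or.inr (Or.inr (Or.inl rfl))))
  have hlift : ∀ {x y : ↥X}, f x = f y → (x : G) * (y : G)⁻¹ ∈ zJ J := by
    intro x y h
    rcases (hfk (x * y⁻¹)).1 (by rw [map_mul, map_inv, h, mul_inv_cancel]) with h1 | h1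
    · change (x : G) * (y : G)⁻¹ = 1 at h1
      rw [h1]; exact one_mem _
    · change (x : G) * (y : G)⁻¹ = e at h1
      rw [h1]; exact heZ
  -- the preimage lies in the fixed elements
  have hT : ∀ t : ↥X, f t ∈ U → (t : G) ∈ fixK S := by
    intro t ht
    obtain ⟨j, hj, hjt⟩ := hU.le ht
    have htJ : (t : G) ∈ J := by
      have := mul_mem (hlift hjt.symm).1 (mem_subgroupOf.1 hj)
      rwa [inv_mul_cancel_right] at this
    refine ⟨htJ, fun h hh => ?_⟩
    have h1 := hU.fix (f ⟨h, hKX hh⟩) ⟨⟨h, hKX hh⟩, hh, rfl⟩ (f t) ht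
    rw [← map_inv f ⟨h, hKX hh⟩, ← map_inv f t, ← map_mul, ← map_mul, ← map_mul] at h1
    have h2 : (t : G)⁻¹ * (h * t * h⁻¹) ∈ zJ J := by
      rcases h1 with h1 | h1 | h1 | h1
      · have := hlift (h1.trans (map_one f).symm)
        simpa using this
      · have := mul_mem (hlift h1) hzZ
        simpa using this
      · have := mul_mem (hlift h1) hbZ
        simpa using this
      · rw [← map_mul] at h1
        have := mul_mem (hlift h1) (mul_mem hbZ hzZ)
        simp only [Subgroup.coe_mul, Subgroup.coe_inv] at this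
        rwa [inv_mul_cancel_right] at this
    rw [show h * (t : G) * h⁻¹ * (t : G)⁻¹ = t * ((t : G)⁻¹ * (h * t * h⁻¹)) * (t : G)⁻¹ by group]
    exact conj_zJ S (S.le_cent (S.J_le htJ)) h2
  -- its order
  set T := U.comap f with hTdef
  have h1 : Nat.card T ≤ Nat.card (fixK S) :=
    Nat.card_le_card_of_injective (fun t => ⟨((t : ↥X) : G), hT t t.2⟩)
      fun s t h => Subtype.ext (Subtype.ext (congrArg Subtype.val h :))
  refine le_trans ?_ h1
  let r := f.subgroupComap U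
  have hr : Function.Surjective r := fun q => by
    obtain ⟨j, -, hj⟩ := hU.le q.2
    exact ⟨⟨j, show f j ∈ U from hj ▸ q.2⟩, Subtype.ext hj⟩
  have heX : e ∈ X := hKX (S.J_le heZ.1)
  have hfe : f ⟨e, heX⟩ = 1 := (hfk _).2 (Or.inr rfl)
  have heT : (⟨e, heX⟩ : ↥X) ∈ T := show f ⟨e, heX⟩ ∈ U by rw [hfe]; exact one_mem _
  have h2 : 2 ≤ Nat.card r.ker := by
    haveI : Nontrivial r.ker := ⟨⟨⟨⟨⟨e, heX⟩, heT⟩, Subtype.ext hfe⟩, 1, fun h => by
      have he1 : e = 1 := congrArg (fun x : ↥r.ker => (((x : ↥T) : ↥X) : G)) h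
      rcases he with rfl | rfl
      · exact S.a_ne.1 he1
      · refine S.a_ne.2 ?_
        rw [eq_inv_of_mul_eq_one_left he1, inv_eq_of_mul_eq_one_right S.sq]⟩⟩
    exact Finite.one_lt_card
  have h3 := Subgroup.card_mul_index r.ker
  rw [Subgroup.index_ker, MonoidHom.range_eq_top.2 hr, Subgroup.card_top, hU.card] at h3
  rw [← h3]
  omega

end H50.Fi23C
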