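import Cfsg.Agent.H38.U6C.Main
import Cfsg.Agent.H66.Inverted

/-!
A four-group `W` whose involutions have no conjugate in `M` except through `M`, next to a
further such involution `z`, central in a Sylow 2-subgroup of `M`: then `M` is the whole group.
Elementary, from the `Z*`-theorem.
-/

set_option autoImplicit false

namespace H50.Fi23C

open Subgroup

universe u

variable {G : Type u} [Group G]

/-- The hypotheses: `M` normalises the four-group `W`; conjugates of elements of `W#` and of `z`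
lie in `M` only through `M`; `z` is central in a Sylow 2-subgroup of `M`, commutes with `W` and is
no `M`-conjugate of another element of `z W`. -/
structure FourHyp (M W : Subgroup G) (z : G) : Prop where
  card : Nat.card W = 4
  sq : ∀ w ∈ W, w * w = 1
  le : W ≤ M
  norm : ∀ m ∈ M, ∀ w ∈ W, m * w * m⁻¹ ∈ W
  wP : ∀ w ∈ W, w ≠ 1 → ∀ g : G, g * w * g⁻¹ ∈ M → g ∈ M
  zP : ∀ g : G, g * z * g⁻¹ ∈ M → g ∈ M
  z_sq : z * z = 1
  z_mem : z ∈ M
  z_not : z ∉ W
  zW : ∀ w ∈ W, Commute z w
  sylow : ∃ P : Sylow 2 M, ∀ p ∈ P, Commute z (p : G)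
  nz : ∀ m ∈ M, ∀ w ∈ W, m * z * m⁻¹ = z * w → w = 1

namespace FourHyp

variable {M W : Subgroup G} {z : G} (h : FourHyp M W z)

include h

theorem comm {x y : G} (hx : x ∈ W) (hy : y ∈ W) : x * y = y * x := by
  have h1 := h.sq _ (mul_mem hx hy)
  rw [← inv_eq_of_mul_eq_one_right h1, mul_inv_rev, inv_eq_of_mul_eq_one_right (h.sq x hx),
    inv_eq_of_mul_eq_one_right (h.sq y hy)]

theorem four_cases {x y w : G} (hx : x ∈ W) (hy : y ∈ W) (hw : w ∈ W) (hx1 : x ≠ 1) (hy1 : y ≠ 1)
    (hxy : y ≠ x) : w = 1 ∨ w = x ∨ w = y ∨ w = x * y := by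
  classical
  haveI : Finite W := Nat.finite_of_card_ne_zero (by rw [h.card]; norm_num)
  haveI := Fintype.ofFinite W
  by_contra hne
  push Not at hne
  have hxi : x⁻¹ = x := inv_eq_of_mul_eq_one_right (h.sq x hx)
  let s : Finset W := {⟨1, one_mem W⟩, ⟨x, hx⟩, ⟨y, hy⟩, ⟨x * y, mul_mem hx hy⟩, ⟨w, hw⟩}
  have e1 : x * y ≠ 1 := fun e => hxy (by rw [eq_inv_of_mul_eq_one_right e, hxi])
  have e2 : x * y ≠ x := fun e => hy1 (mul_left_cancel (a := x) (by rw [e, mul_one]))
  have e3 : x * y ≠ y := fun e => hx1 (mul_right_cancel (b := y) (by rw [e, one_mul]))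
  have hs : s.card = 5 := by
    simp only [s]
    rw [Finset.card_insert_of_notMem, Finset.card_insert_of_notMem, Finset.card_insert_of_notMem,
      Finset.card_insert_of_notMem, Finset.card_singleton] <;>
      simp [Subtype.ext_iff, Ne.symm hx1, Ne.symm hy1, Ne.symm hxy, Ne.symm e1, Ne.symm e2,
        Ne.symm e3, Ne.symm hne.1, Ne.symm hne.2.1, Ne.symm hne.2.2.1, Ne.symm hne.2.2.2]
  have h5 := Finset.card_le_univ s
  rw [hs, ← Nat.card_eq_fintype_card, h.card] at h5
  omega

theorem exists_ne : ∀ a ∈ W, ∃ b ∈ W, b ≠ 1 ∧ b ≠ a := by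
  intro a _
  classical
  haveI : Finite W := Nat.finite_of_card_ne_zero (by rw [h.card]; norm_num)
  haveI := Fintype.ofFinite W
  by_contra hne
  push Not at hne
  have : ∀ b : W, (b : G) = 1 ∨ (b : G) = a := fun b => by
    by_cases hb : (b : G) = 1
    · exact Or.inl hb
    · exact Or.inr (hne b b.2 hb)
  let f : W → Fin 2 := fun b => if (b : G) = 1 then 0 else 1
  have hf : Function.Injective f := by
    intro b c e
    apply Subtype.ext
    rcases this b with hb | hb <;> rcases this c with hc | hc <;> simp_all [f]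
  have h2 := Nat.card_le_card_of_injective f hf
  rw [h.card, Nat.card_fin] at h2
  omega

theorem cent_w {w g : G} (hw : w ∈ W) (hw1 : w ≠ 1) (hc : Commute g w) : g ∈ M := by
  refine h.wP w hw hw1 g ?_
  rw [hc.eq, mul_inv_cancel_right]
  exact h.le hw

theorem cent_z {g : G} (hc : Commute g z) : g ∈ M := by
  refine h.zP g ?_
  rw [hc.eq, mul_inv_cancel_right]
  exact h.z_mem

theorem conj {m : G} (hm : m ∈ M) : FourHyp M W (m * z * m⁻¹) where
  card := h.card
  sq := h.sq
  le := h.le
  norm := h.norm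
  wP := h.wP
  zP g hg := by
    have h1 : g * m ∈ M := h.zP _ (by simpa [mul_assoc] using hg)
    simpa using mul_mem h1 (inv_mem hm)
  z_sq := by
    rw [show m * z * m⁻¹ * (m * z * m⁻¹) = m * (z * z) * m⁻¹ by group, h.z_sq]; group
  z_mem := mul_mem (mul_mem hm h.z_mem) (inv_mem hm)
  z_not hmem := by
    apply h.z_not
    have h1 := h.norm _ (inv_mem hm) _ hmem
    simpa [mul_assoc] using h1
  zW w hw := by
    have h1 := h.zW _ (h.norm _ (inv_mem hm) _ hw)
    show m * z * m⁻¹ * w = w * (m * z * m⁻¹)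
    calc m * z * m⁻¹ * w = m * (z * (m⁻¹ * w * m⁻¹⁻¹)) * m⁻¹ := by group
      _ = m * ((m⁻¹ * w * m⁻¹⁻¹) * z) * m⁻¹ := by rw [h1.eq]
      _ = w * (m * z * m⁻¹) := by group
  sylow := by
    obtain ⟨P, hP⟩ := h.sylow
    refine ⟨(⟨m, hm⟩ : M) • P, fun p hp => ?_⟩
    obtain ⟨q, hq, rfl⟩ := hp
    have h1 := hP q hq
    show m * z * m⁻¹ * (m * (q : G) * m⁻¹) = m * (q : G) * m⁻¹ * (m * z * m⁻¹)
    calc m * z * m⁻¹ * (m * (q : G) * m⁻¹) = m * (z * q) * m⁻¹ := by group
      _ = m * ((q : G) * z) * m⁻¹ := by rw [h1.eq]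
      _ = _ := by group
  nz m' hm' w hw e := by
    have h1 := h.nz (m⁻¹ * m' * m) (mul_mem (mul_mem (inv_mem hm) hm') hm) (m⁻¹ * w * m⁻¹⁻¹)
      (h.norm _ (inv_mem hm) _ hw) (by
        calc m⁻¹ * m' * m * z * (m⁻¹ * m' * m)⁻¹ = m⁻¹ * (m' * (m * z * m⁻¹) * m'⁻¹) * m := by
              group
          _ = m⁻¹ * (m * z * m⁻¹ * w) * m := by rw [e]
          _ = z * (m⁻¹ * w * m⁻¹⁻¹) := by group)
    simpa [mul_assoc] using congrArg (fun x => m * x * m⁻¹) h1

end FourHyp

/-- An isolated involution whose centraliser lies in `M`, with the odd core in `M`. -/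
theorem eq_top_of_iso {X : Type u} [Group X] [Finite X] {a b : X} {M : Subgroup X}
    (ha : a * a = 1) (ha1 : a ≠ 1) (hb : b * b = 1) (hab : a * b = b * a)
    (hiso : ∀ x : X, Commute (x * a * x⁻¹) a → x * a * x⁻¹ = a)
    (hca : ∀ x : X, Commute x a → x ∈ M) (hcb : ∀ x : X, Commute x b → x ∈ M)
    (hcab : ∀ x : X, Commute x (a * b) → x ∈ M) : M = ⊤ := by
  haveI : Fact (Nat.Prime 2) := ⟨Nat.prime_two⟩
  have ho : orderOf a = 2 := orderOf_eq_prime (by rw [pow_two, ha]) ha1
  have hwc : H38.U6C.WC a := fun x hx hc => by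
    obtain ⟨g, rfl⟩ := isConj_iff.1 hc
    exact hiso g (Subgroup.mem_centralizer_singleton_iff.1 hx)
  have htop := H38.U6C.mul_core_of_wc ho hwc
  have hn : (Cfsg.oddCore X).Normal := H1.pPrimeCore_normal' 2 X
  have hodd : Odd (Nat.card (Cfsg.oddCore X)) :=
    Nat.coprime_two_right.1 (H1.card_pPrimeCore_coprime 2 X)
  have hle : Cfsg.oddCore X ≤ M :=
    H66.le_of_centralizers_fourGroup
      (fun x hx => hodd.of_dvd_nat (Subgroup.orderOf_dvd_natCard _ hx)) ha hb hab
      (fun x hx => hn.conj_mem x hx a) (fun x hx => hn.conj_mem x hx b)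
      (fun x _ hx => hca x hx) (fun x _ hx => hcb x hx) (fun x _ hx => hcab x hx)
  rw [eq_top_iff, ← htop, sup_le_iff]
  exact ⟨fun x hx => hca x (Subgroup.mem_centralizer_singleton_iff.1 hx), hle⟩

theorem eq_top_aux : ∀ (n : ℕ) {G : Type u} [Group G] [Finite G] {M W : Subgroup G} {z : G},
    Nat.card G = n → FourHyp M W z → M = ⊤ := by
  intro n
  induction n using Nat.strong_induction_on with
  | _ n ih =>
  intro G _ _ M W z hn h
  subst hn
  by_contra hM
  -- every involution of `W` moves in `M`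
  have hmove : ∀ a ∈ W, a ≠ 1 → ∃ m ∈ M, m * a * m⁻¹ ≠ a := by
    intro a ha ha1
    by_contra hne
    push Not at hne
    obtain ⟨b, hb, hb1, hba⟩ := h.exists_ne a ha
    have hab1 : a * b ≠ 1 := fun e => hba (by
      rw [eq_inv_of_mul_eq_one_right e, inv_eq_of_mul_eq_one_right (h.sq a ha)])
    refine hM (eq_top_of_iso (h.sq a ha) ha1 (h.sq b hb) (h.comm ha hb) (fun x hx => ?_)
      (fun x hx => h.cent_w ha ha1 hx) (fun x hx => h.cent_w hb hb1 hx)
      (fun x hx => h.cent_w (mul_mem ha hb) hab1 hx))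
    exact hne x (h.wP a ha ha1 x (h.cent_w ha ha1 hx))
  -- the centralisers of the involutions of `M` outside the centre
  have hinner : ∀ u ∈ M, u * u = 1 → u ∉ center G → (∀ w ∈ W, Commute u w) →
      ∀ x : G, Commute x u → x ∈ M := by
    intro u hu hu2 huc huW x hx
    set X : Subgroup G := centralizer ({u} : Set G) with hX
    have hlt : Nat.card X < Nat.card G := by
      refine lt_of_le_of_ne (Subgroup.card_le_card_group X) fun e => huc ?_
      rw [Subgroup.mem_center_iff]
      intro g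
      exact Subgroup.mem_centralizer_singleton_iff.1
        (show g ∈ X by rw [Subgroup.eq_top_of_card_eq X e]; exact Subgroup.mem_top g)
    have hWX : W ≤ X := fun w hw => Subgroup.mem_centralizer_singleton_iff.2 (huW w hw).eq.symm
    -- a Sylow subgroup of `M ∩ C(u)` through `u`
    have hsub : IsPGroup 2 (zpowers (⟨u, Subgroup.mem_centralizer_singleton_iff.2 rfl⟩ : X)) := by
      intro ⟨v, hv⟩
      refine ⟨1, Subtype.ext ?_⟩
      obtain ⟨k, rfl⟩ := mem_zpowers_iff.1 hv
      apply Subtype.ext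
      show (u ^ k) ^ (2 ^ 1) = 1
      rw [pow_one, pow_two, ← zpow_add, ← two_mul, zpow_mul, zpow_two, hu2, one_zpow]
    have hsubM : zpowers (⟨u, Subgroup.mem_centralizer_singleton_iff.2 rfl⟩ : X) ≤ M.subgroupOf X :=
      Subgroup.zpowers_le.2 hu
    obtain ⟨R, hR⟩ := (hsub.comap_of_injective (M.subgroupOf X).subtype
      Subtype.val_injective).exists_le_sylow
    have huR : (⟨⟨u, Subgroup.mem_centralizer_singleton_iff.2 rfl⟩, hu⟩ : ↥(M.subgroupOf X)) ∈ R :=
      hR (mem_zpowers (⟨u, Subgroup.mem_centralizer_singleton_iff.2 rfl⟩ : X))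
    let ι : ↥(M.subgroupOf X) →* ↥M :=
      { toFun := fun q => ⟨((q : X) : G), q.2⟩, map_one' := rfl, map_mul' := fun _ _ => rfl }
    obtain ⟨Q, hQ⟩ := (R.isPGroup'.map ι).exists_le_sylow
    obtain ⟨P, hP⟩ := h.sylow
    obtain ⟨m, hm⟩ := MulAction.exists_smul_eq ↥M P Q
    have h' := h.conj m.2
    have hcomm : ∀ r ∈ R, Commute ((m : G) * z * (m : G)⁻¹) ((r : X) : G) := by
      intro r hr
      have h1 : ι r ∈ Q := hQ ⟨r, hr, rfl⟩
      rw [← hm] at h1
      obtain ⟨q, hq, hqr⟩ := h1
      have h2 : (m : G) * (q : G) * (m : G)⁻¹ = ((r : X) : G) := congrArg Subtype.val hqr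
      rw [← h2]
      show (m : G) * z * (m : G)⁻¹ * ((m : G) * q * (m : G)⁻¹) = _
      calc (m : G) * z * (m : G)⁻¹ * ((m : G) * q * (m : G)⁻¹) = m * (z * q) * (m : G)⁻¹ := by
            group
        _ = m * ((q : G) * z) * (m : G)⁻¹ := by rw [(hP q hq).eq]
        _ = _ := by group
    have hzX : (m : G) * z * (m : G)⁻¹ ∈ X :=
      Subgroup.mem_centralizer_singleton_iff.2 (hcomm _ huR).eq
    have key := ih _ hlt (M := M.subgroupOf X) (W := W.subgroupOf X) (z := ⟨_, hzX⟩) rfl
      { card := by rw [Nat.card_congr (Subgroup.subgroupOfEquivOfLe hWX).toEquiv]; exact h.card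
        sq := fun w hw => Subtype.ext (h.sq _ hw)
        le := fun w hw => h.le hw
        norm := fun k hk w hw => h.norm _ hk _ hw
        wP := fun w hw hw1 g hg => h.wP _ hw (fun e => hw1 (Subtype.ext e)) _ hg
        zP := fun g hg => h'.zP _ hg
        z_sq := Subtype.ext h'.z_sq
        z_mem := h'.z_mem
        z_not := h'.z_not
        zW := fun w hw => Subtype.ext (h'.zW _ hw).eq
        sylow := ⟨R, fun p hp => Subtype.ext (hcomm p hp).eq⟩
        nz := fun k hk w hw e => Subtype.ext (h'.nz _ hk _ hw (congrArg Subtype.val e)) }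
    have hxX : x ∈ X := Subgroup.mem_centralizer_singleton_iff.2 hx.eq
    have h3 : (⟨x, hxX⟩ : X) ∈ M.subgroupOf X := key ▸ Subgroup.mem_top _
    exact h3
  have hcent : ∀ u ∈ M, u * u = 1 → u ∉ center G → ∀ x : G, Commute x u → x ∈ M := by
    intro u hu hu2 huc
    by_cases huW : ∀ w ∈ W, Commute u w
    · exact hinner u hu hu2 huc huW
    push Not at huW
    obtain ⟨w, hw, huw⟩ := huW
    have hui : u⁻¹ = u := inv_eq_of_mul_eq_one_right hu2
    have hw' : u * w * u⁻¹ ∈ W := h.norm u hu w hw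
    set a := w * (u * w * u⁻¹) with ha
    have haW : a ∈ W := mul_mem hw hw'
    have ha1 : a ≠ 1 := fun e => huw (by
      have h1 : u * w * u⁻¹ = w := by
        rw [eq_inv_of_mul_eq_one_right e, inv_eq_of_mul_eq_one_right (h.sq w hw)]
      exact mul_inv_eq_iff_eq_mul.1 h1)
    have hua : Commute u a := by
      have : u * a * u⁻¹ = a := by
        rw [ha, show u * (w * (u * w * u⁻¹)) * u⁻¹ = (u * w * u⁻¹) * ((u * u) * w * (u * u)⁻¹) by
          group, hu2, one_mul, inv_one, mul_one, h.comm hw' hw]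
      exact mul_inv_eq_iff_eq_mul.1 this
    -- a conjugate of `z` commuting with `u`
    obtain ⟨P, hP⟩ := h.sylow
    have hsub : IsPGroup 2 (zpowers (⟨u, hu⟩ : M)) := by
      intro ⟨v, hv⟩
      refine ⟨1, Subtype.ext ?_⟩
      obtain ⟨k, rfl⟩ := mem_zpowers_iff.1 hv
      apply Subtype.ext
      show (u ^ k) ^ (2 ^ 1) = 1
      rw [pow_one, pow_two, ← zpow_add, ← two_mul, zpow_mul, zpow_two, hu2, one_zpow]
    obtain ⟨Q, hQ⟩ := hsub.exists_le_sylow
    obtain ⟨m, hm⟩ := MulAction.exists_smul_eq ↥M P Q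
    have h' := h.conj m.2
    set z' := (m : G) * z * (m : G)⁻¹ with hz'
    have huz : Commute u z' := by
      have h1 : (⟨u, hu⟩ : M) ∈ Q := hQ (mem_zpowers _)
      rw [← hm] at h1
      obtain ⟨q, hq, hqu⟩ := h1
      have h2 : (m : G) * (q : G) * (m : G)⁻¹ = u := congrArg Subtype.val hqu
      rw [hz', ← h2]
      show (m : G) * q * (m : G)⁻¹ * ((m : G) * z * (m : G)⁻¹) = _
      calc (m : G) * q * (m : G)⁻¹ * ((m : G) * z * (m : G)⁻¹) = m * ((q : G) * z) * (m : G)⁻¹ := by
            group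
        _ = m * (z * (q : G)) * (m : G)⁻¹ := by rw [(hP q hq).eq]
        _ = _ := by group
    have haz : a * z' = z' * a := (h'.zW a haW).eq.symm
    have haz2 : a * z' * (a * z') = 1 := by
      rw [show a * z' * (a * z') = a * (z' * a) * z' by group, ← haz,
        show a * (a * z') * z' = (a * a) * (z' * z') by group, h.sq a haW, h'.z_sq, one_mul]
    have hazc : a * z' ∉ center G := by
      intro hc
      obtain ⟨k, hk, hka⟩ := hmove a haW ha1
      have h1 : k * z' * k⁻¹ = z' * (a * (k * a * k⁻¹)) := by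
        have h2 : k * (a * z') = a * z' * k := Subgroup.mem_center_iff.1 hc k
        calc k * z' * k⁻¹ = k * ((a * a) * z') * k⁻¹ := by rw [h.sq a haW, one_mul]
          _ = (k * a * k⁻¹) * (k * (a * z')) * k⁻¹ := by group
          _ = (k * a * k⁻¹) * (a * z') := by rw [h2]; group
          _ = (a * z') * (k * a * k⁻¹) := by
            have h3 := h.comm (h.norm k hk a haW) haW
            have h4 := h'.zW _ (h.norm k hk a haW)
            calc k * a * k⁻¹ * (a * z') = (k * a * k⁻¹ * a) * z' := (mul_assoc _ _ _).symm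
              _ = a * (k * a * k⁻¹) * z' := by rw [h3]
              _ = a * (z' * (k * a * k⁻¹)) := by rw [mul_assoc, h4.eq]
              _ = a * z' * (k * a * k⁻¹) := (mul_assoc _ _ _).symm
          _ = z' * (a * (k * a * k⁻¹)) := by rw [haz]; group
      have h5 := h'.nz k hk _ (mul_mem haW (h.norm k hk a haW)) h1
      exact hka (by rw [eq_inv_of_mul_eq_one_right h5, inv_eq_of_mul_eq_one_right (h.sq a haW)])
    have hazW : ∀ v ∈ W, Commute (a * z') v := fun v hv => by
      exact Commute.mul_left (h.comm haW hv) (h'.zW v hv)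
    set X : Subgroup G := centralizer ({u} : Set G) with hX
    have haX : a ∈ X := Subgroup.mem_centralizer_singleton_iff.2 hua.eq.symm
    have hzX : z' ∈ X := Subgroup.mem_centralizer_singleton_iff.2 huz.eq.symm
    have key : M.subgroupOf X = ⊤ := by
      refine eq_top_of_iso (a := (⟨a, haX⟩ : X)) (b := ⟨z', hzX⟩) (Subtype.ext (h.sq a haW))
        (fun e => ha1 (congrArg Subtype.val e)) (Subtype.ext h'.z_sq) (Subtype.ext haz)
        (fun x hx => ?_) (fun x hx => h.cent_w haW ha1 (hx.map X.subtype))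
        (fun x hx => h'.cent_z (hx.map X.subtype))
        (fun x hx => hinner _ (mul_mem (h.le haW) h'.z_mem) haz2 hazc hazW _ (hx.map X.subtype))
      apply Subtype.ext
      show (x : G) * a * (x : G)⁻¹ = a
      have h1 : (x : G) * a * (x : G)⁻¹ ∈ M :=
        h.cent_w haW ha1 (hx.map X.subtype)
      have h2 : (x : G) * a * (x : G)⁻¹ ∈ W := h.norm _ (h.wP a haW ha1 _ h1) a haW
      have h3 : Commute u ((x : G) * a * (x : G)⁻¹) := by
        have hxu : Commute u (x : G) := (Subgroup.mem_centralizer_singleton_iff.1 x.2).symm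
        exact (hxu.mul_right hua).mul_right hxu.inv_right
      by_contra hne
      have h4 : (x : G) * a * (x : G)⁻¹ ≠ 1 := fun e => ha1 (by
        have := congrArg (fun y => (x : G)⁻¹ * y * (x : G)) e
        simpa [mul_assoc] using this)
      apply huw
      rcases h.four_cases haW h2 hw ha1 h4 hne with e | e | e | e <;> rw [e]
      · exact Commute.one_right u
      · exact hua
      · exact h3
      · exact hua.mul_right h3
    intro x hx
    have hxX : x ∈ X := Subgroup.mem_centralizer_singleton_iff.2 hx.eq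
    have h3 : (⟨x, hxX⟩ : X) ∈ M.subgroupOf X := key ▸ Subgroup.mem_top _
    exact h3
  -- the dihedral group of `a` and a conjugate of `z` outside
  obtain ⟨g, hg⟩ : ∃ g, g ∉ M := by
    by_contra hne
    push Not at hne
    exact hM (eq_top_iff.2 fun x _ => hne x)
  obtain ⟨a, haW, ha1, -⟩ := h.exists_ne 1 (one_mem W)
  set z2 := g * z * g⁻¹ with hz2
  have hz2sq : z2 * z2 = 1 := by
    rw [hz2, show g * z * g⁻¹ * (g * z * g⁻¹) = g * (z * z) * g⁻¹ by group, h.z_sq]; group
  have hai : a⁻¹ = a := inv_eq_of_mul_eq_one_right (h.sq a haW)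
  have hz2i : z2⁻¹ = z2 := inv_eq_of_mul_eq_one_right hz2sq
  set r := a * z2 with hr
  have har : ∀ k : ℕ, a * r ^ k * a⁻¹ = (r ^ k)⁻¹ := by
    intro k
    rw [← conj_pow, ← inv_pow]
    congr 1
    rw [hr, mul_inv_rev, hz2i, hai, show a * (a * z2) * a = (a * a) * (z2 * a) by group,
      h.sq a haW, one_mul]
  have hza : ∀ k : ℕ, z2 * r ^ k * z2⁻¹ = (r ^ k)⁻¹ := by
    intro k
    rw [← conj_pow, ← inv_pow]
    congr 1
    apply eq_inv_of_mul_eq_one_left
    rw [hz2i, hr]
    calc z2 * (a * z2) * z2 * (a * z2) = z2 * a * (z2 * z2) * a * z2 := by simp only [mul_assoc]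
      _ = z2 * (a * a) * z2 := by rw [hz2sq, mul_one]; simp only [mul_assoc]
      _ = 1 := by rw [h.sq a haW, mul_one, hz2sq]
  rcases Nat.even_or_odd' (orderOf r) with ⟨k, hk | hk⟩
  · -- even order: the central involution
    set u := r ^ k with hu
    have hk0 : 0 < k := by have := orderOf_pos r; omega
    have hu1 : u ≠ 1 := pow_ne_one_of_lt_orderOf hk0.ne' (by omega)
    have hu2 : u * u = 1 := by
      rw [hu, ← pow_add, ← two_mul, ← hk, pow_orderOf_eq_one]
    have hui : u⁻¹ = u := inv_eq_of_mul_eq_one_right hu2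
    have hau : Commute a u := by
      have h1 := har k
      rw [← hu, hui] at h1
      exact mul_inv_eq_iff_eq_mul.1 h1
    have hzu : Commute z2 u := by
      have h1 := hza k
      rw [← hu, hui] at h1
      exact mul_inv_eq_iff_eq_mul.1 h1
    have huM : u ∈ M := h.cent_w haW ha1 hau.symm
    by_cases huc : u ∈ center G
    · rcases Nat.even_or_odd' k with ⟨i, hi | hi⟩
      · have h1 : r ^ i * a * (r ^ i)⁻¹ = a * u := by
          calc r ^ i * a * (r ^ i)⁻¹ = a * ((a⁻¹ * r ^ i * a) * (r ^ i)⁻¹) := by group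
            _ = a * ((r ^ i)⁻¹ * (r ^ i)⁻¹) := by
              congr 2
              have := har i
              rw [hai] at this ⊢
              exact this
            _ = a * u := by
              congr 1
              rw [← mul_inv_rev, ← pow_add, ← two_mul, ← hi, ← hu, hui]
        have h2 : r ^ i ∈ M := h.wP a haW ha1 _ (by rw [h1]; exact mul_mem (h.le haW) huM)
        have h3 : u ∈ W := by
          have := mul_mem haW (h1 ▸ h.norm _ h2 a haW)
          rwa [← mul_assoc, h.sq a haW, one_mul] at this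
        obtain ⟨m, -, hm⟩ := hmove u h3 hu1
        exact hm (by rw [Subgroup.mem_center_iff.1 huc m, mul_inv_cancel_right])
      · have h1 : r ^ i * a * (r ^ i)⁻¹ * u = z2 := by
          calc r ^ i * a * (r ^ i)⁻¹ * u = a * ((a⁻¹ * r ^ i * a) * (r ^ i)⁻¹ * u) := by group
            _ = a * ((r ^ i)⁻¹ * (r ^ i)⁻¹ * r ^ k) := by
              congr 3
              have := har i
              rw [hai] at this ⊢
              exact this
            _ = a * r := by
              congr 1
              rw [hi, pow_succ, two_mul, pow_add]; group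
            _ = z2 := by rw [hr, ← mul_assoc, h.sq a haW, one_mul]
        set c := g⁻¹ * r ^ i with hc
        have h2 : c * a * c⁻¹ = z * u := by
          have h3 : r ^ i * a * (r ^ i)⁻¹ = z2 * u := by
            rw [← h1, mul_assoc _ u u, hu2, mul_one]
          calc c * a * c⁻¹ = g⁻¹ * (r ^ i * a * (r ^ i)⁻¹) * g := by rw [hc]; group
            _ = g⁻¹ * (g * z * g⁻¹ * u) * g := by rw [h3, hz2]
            _ = z * (g⁻¹ * (u * g)) := by group
            _ = z * u := by
              rw [← Subgroup.mem_center_iff.1 huc g, inv_mul_cancel_left]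
        have h4 : c ∈ M := h.wP a haW ha1 _ (by rw [h2]; exact mul_mem h.z_mem huM)
        have h5 : z * u ∈ W := h2 ▸ h.norm _ h4 a haW
        have h6 : z * u ≠ 1 := fun e => ha1 (by
          rw [← h2] at e
          have := congrArg (fun y => c⁻¹ * y * c) e
          simpa [mul_assoc] using this)
        obtain ⟨m, hm, hmne⟩ := hmove _ h5 h6
        have h7 : m * z * m⁻¹ = z * ((z * u) * (m * (z * u) * m⁻¹)) := by
          calc m * z * m⁻¹ = m * (z * (u * u)) * m⁻¹ := by rw [hu2, mul_one]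
            _ = m * (z * u) * (u * m⁻¹) := by group
            _ = m * (z * u) * m⁻¹ * u := by rw [← Subgroup.mem_center_iff.1 huc m⁻¹, ← mul_assoc]
            _ = u * (m * (z * u) * m⁻¹) := Subgroup.mem_center_iff.1 huc _
            _ = (z * z) * (u * (m * (z * u) * m⁻¹)) := by rw [h.z_sq, one_mul]
            _ = _ := by group
        have h8 := h.nz m hm _ (mul_mem h5 (h.norm m hm _ h5)) h7
        exact hmne (by rw [eq_inv_of_mul_eq_one_right h8, inv_eq_of_mul_eq_one_right (h.sq _ h5)])
    · exact hg (h.zP g (hcent u huM hu2 huc z2 hzu))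
  · -- odd order: `a` and `z` would be conjugate
    set s := r ^ (k + 1) with hs
    have hss : s * s = r := by
      rw [hs, ← pow_add, show k + 1 + (k + 1) = orderOf r + 1 by omega, pow_succ,
        pow_orderOf_eq_one, one_mul]
    have h1 : (s * g) * z * (s * g)⁻¹ = a := by
      calc (s * g) * z * (s * g)⁻¹ = s * z2 * s⁻¹ := by rw [hz2]; group
        _ = s * (a * r) * s⁻¹ := by rw [hr, ← mul_assoc a a z2, h.sq a haW, one_mul]
        _ = a * ((a⁻¹ * s * a) * r * s⁻¹) := by group
        _ = a * (s⁻¹ * (s * s) * s⁻¹) := by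
          rw [hss]
          congr 3
          have := har (k + 1)
          rw [hai] at this ⊢
          exact this
        _ = a := by group
    have h2 : s * g ∈ M := h.zP _ (h1 ▸ h.le haW)
    apply h.z_not
    have h3 := h.norm _ (inv_mem h2) a haW
    rw [← h1] at h3
    simpa [mul_assoc] using h3

/-- A strongly closed four-group of this kind is normalised by the whole group. -/
theorem eq_top {G : Type u} [Group G] [Finite G] {M W : Subgroup G} {z : G}
    (h : FourHyp M W z) : M = ⊤ :=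
  eq_top_aux _ rfl h

end H50.Fi23C
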